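import Cfsg.Agent.Lib.KCl.Grp2
import Cfsg.Agent.Lib.GLC.Index2
import Cfsg.Agent.Lib.PSL2.SmallIso
import Cfsg.Agent.S4198
import Cfsg.Agent.S2480
import Cfsg.Agent.S2325
import Cfsg.Agent.S2331
import Cfsg.Agent.S4201
import Cfsg.Agent.S2578

/-!
# Class numbers of some known groups
-/

set_option autoImplicit false

namespace Cfsg.Lib.KCl

open Subgroup Cfsg.Lib.GLC Cfsg.Agent Matrix
open scoped MatrixGroups

theorem part_mem (x : Equiv.Perm (Fin 7)) : x.partition.parts.sort (· ≤ ·) ∈ S4198.F 7 :=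
  S4198.mem_F _ _ (Multiset.pairwise_sort _ _)
    (fun _ ha => x.partition.parts_pos ((Multiset.mem_sort _).1 ha))
    (by rw [← Multiset.sum_coe, Multiset.sort_eq, Nat.Partition.parts_sum, Fintype.card_fin])

theorem kA7 : Nat.card (ConjClasses (alternatingGroup (Fin 7))) ≤ 9 := by
  have h1 := two_mul_card_ker (Equiv.Perm.sign : Equiv.Perm (Fin 7) →* ℤˣ) alternatingGroup.index_eq_two
  have h2 : Nat.card (ConjClasses (Equiv.Perm (Fin 7))) ≤ 15 := by
    rw [show 15 = (S4198.F 7).card by decide +kernel, ← Nat.card_eq_finsetCard]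
    exact Nat.card_le_card_of_injective (fun C => ⟨_, part_mem C.out⟩) fun C D h => S4198.out_inj
      (Equiv.Perm.partition_eq_of_isConj.2 (Nat.Partition.ext
        (by simpa using congrArg (fun l => (l.1 : Multiset ℕ)) h)))
  have h3 : ∀ l ∈ S4198.F 7, (∀ c ∈ (l : Multiset ℕ).filter (2 ≤ ·), Odd c) →
      7 ≤ ((l : Multiset ℕ).filter (2 ≤ ·)).sum + 1 → ((l : Multiset ℕ).filter (2 ≤ ·)).Nodup →
        (l : Multiset ℕ).filter (2 ≤ ·) = {7} := by decide +kernel
  have h4 : ∀ x : Equiv.Perm (Fin 7), (∀ g, Commute x g → Equiv.Perm.sign g = 1) → x.cycleType = {7} :=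
    fun x h => by
      obtain ⟨a, b, c⟩ := Equiv.Perm.centralizer_le_alternating_iff.1
        fun g hg => h g (mem_centralizer_singleton_iff.1 hg).symm
      have := h3 _ (part_mem x)
      rw [Multiset.sort_eq, Equiv.Perm.filter_parts_partition_eq_cycleType] at this
      exact this a b (Multiset.nodup_iff_count_le_one.2 c)
  have h5 := (Finite.card_le_one_iff_subsingleton
    (α := {C : ConjClasses (Equiv.Perm (Fin 7)) // ∀ g, Commute C.out g → Equiv.Perm.sign g = 1})).2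
    ⟨fun C D => Subtype.ext (S4198.out_inj (Equiv.Perm.isConj_iff_cycleType_eq.2
      ((h4 _ C.2).trans (h4 _ D.2).symm)))⟩
  change 2 * Nat.card (ConjClasses (alternatingGroup (Fin 7))) = _ at h1
  omega

variable {F : Type*} [Field F] [Fintype F]

theorem kPSL2 : 2 * Nat.card (ConjClasses PSL(2, F)) =
    if Fintype.card F % 2 = 1 then Fintype.card F + 5 else 2 * Fintype.card F + 2 := by
  split_ifs with h
  · have h1 := (S2480.result (F := F) 2 le_rfl).2
    have h2 := S4201.result (center SL(2, F))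
    have h3 := Linear.card_center_SL (ι := Fin 2) (F := F)
    have h4 : Nat.gcd 2 (Fintype.card F - 1) = 2 := Nat.gcd_eq_left (by omega)
    have h5 := Nat.card_le_card_of_surjective _ (ConjClasses.mk_surjective (α := center SL(2, F)))
    rw [Fintype.card_fin, h4] at h3
    rw [S2325.result (Nat.odd_iff.2 h)] at h2
    have h6 := h2.trans (Nat.mul_le_mul_right _ (h3 ▸ h5))
    simp only [h4, Nat.add_one_sub_one, pow_one, Nat.sub_self, pow_zero] at h1
    change _ ≤ 2 * Nat.card (ConjClasses PSL(2, F)) at h6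
    omega
  · obtain ⟨e⟩ := PSL2.equiv_sl_psl_of_even (F := F) (by rwa [Nat.card_eq_fintype_card, Nat.odd_iff])
    have := ringChar.of_eq (FiniteField.even_card_iff_char_two.2 (show Fintype.card F % 2 = 0 by omega))
    rw [← card_conjClasses_congr e, S2331.result, mul_add]

theorem reg_iff [CharP F 2] (u : SL(3, F)) :
    (u.1 - 1) ^ 3 = 0 ∧ (u.1 - 1).rank = 3 - 1 ↔ u ^ 4 = 1 ∧ u ^ 2 ≠ 1 := by
  have h1 : ∀ k, u ^ 2 ^ k = 1 ↔ (toLin' u.1 - (1 : F) • 1) ^ 2 ^ k = 0 := fun k => by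
    rw [one_smul, toLin'_sub_one_pow_eq_zero_iff, sub_pow_char_pow_of_commute _ _ (Commute.one_right _),
      one_pow, sub_eq_zero]
    exact Subtype.ext_iff.trans (Iff.of_eq (congrArg (· = 1) (Matrix.SpecialLinearGroup.coe_pow u _)))
  have h2 := rank_add_finrank_ker (u.1 - 1)
  rw [← toLin'_sub_one_pow_eq_zero_iff, ne_eq, show u ^ 4 = 1 ↔ _ from h1 2, show u ^ 2 = 1 ↔ _ from h1 1]
  rw [toLin'_sub_one, Fintype.card_fin] at h2
  by_cases h : IsNilpotent (toLin' u.1 - 1)
  · obtain ⟨d, h3, h4⟩ := exists_jt_one h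
    have h5 := h4 ▸ blocks_typ (toLin' u.1)
    have h6 := h5.jt_sum
    rw [← one_smul F (1 : Module.End F _)] at h2 ⊢
    rw [h5.jt_finrank_ker_one h3] at h2
    rw [Module.finrank_fintype_fun_eq_card, Fintype.card_fin] at h6
    simp only [one_smul F ((1 : F) • _), h5.jt_pow_eq_zero_iff, not_forall, not_le]
    refine ⟨fun ⟨a, b⟩ => ⟨fun x hx => (a x hx).trans (by norm_num), ?_⟩, fun ⟨_, a, b, c⟩ => ?_⟩
    · obtain ⟨x, rfl⟩ := Multiset.card_eq_one.1 (show d.card = 1 by omega)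
      exact ⟨x, Multiset.mem_singleton_self x, by simp at h6; omega⟩
    · obtain ⟨m, rfl⟩ := Multiset.exists_cons_of_mem b
      have := Multiset.card_nsmul_le_sum fun x hx => h3 x (Multiset.mem_cons_of_mem (s := m) hx)
      rw [Multiset.sum_cons] at h6
      rw [Multiset.card_cons] at h2
      refine ⟨fun x hx => ?_, by simp at this c; omega⟩
      have := Multiset.single_le_sum (fun _ _ => Nat.zero_le _) x hx
      rw [Multiset.sum_cons] at this
      omega
  · exact iff_of_false (fun e => h ⟨_, e.1⟩) fun e => h ⟨_, by simpa using e.1⟩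

theorem cnt_L34 (hF : Fintype.card F = 4) : cnt (LL PSL(3, F)) 4 = 3 := by
  have := ringChar.of_eq (FiniteField.even_card_iff_char_two.2 (show Fintype.card F % 2 = 0 by omega))
  have h1 := S2578.result hF (n := 3) (by norm_num)
  simp only [reg_iff] at h1
  have h2 : ∀ z ∈ center SL(3, F), z ^ 3 = 1 := fun z hz => by
    have h3 := Linear.card_center_SL (ι := Fin 3) (F := F)
    have h4 := pow_card_eq_one' (x := (⟨z, hz⟩ : center _))
    rw [h3, hF] at h4
    exact congrArg Subtype.val h4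
  have h3 : ∀ z ∈ center SL(3, F), z ^ 4 = 1 → z = 1 := fun z hz e => by rwa [pow_succ, h2 z hz, one_mul] at e
  have h4 : ∀ u : SL(3, F), u ^ 4 = 1 → (orderOf (u : PSL(3, F)) = 4 ↔ u ^ 2 ≠ 1) := fun u h => by
    have k : (u : PSL(3, F)) ^ 2 = 1 ↔ u ^ 2 = 1 := by
      rw [← QuotientGroup.mk_pow, QuotientGroup.eq_one_iff]
      exact ⟨fun e => h3 _ e (by rw [pow_right_comm, h, one_pow]), fun e => e ▸ one_mem _⟩
    refine ⟨fun e e' => absurd (e ▸ orderOf_dvd_of_pow_eq_one (k.2 e')) (by norm_num), fun e => ?_⟩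
    exact orderOf_eq_prime_pow (p := 2) (n := 1) (mt k.1 e) (by rw [← QuotientGroup.mk_pow]; exact congrArg _ h)
  rw [cnt_LL (by norm_num), ← Nat.card_eq_finsetCard]
  refine Eq.trans (Nat.card_eq_of_bijective (fun C => ⟨C.1.map (QuotientGroup.mk' _), by
    obtain ⟨_, u, rfl, a, b⟩ := C
    exact mem_cls.2 ⟨u, (h4 u a).2 b, rfl⟩⟩) ⟨?_, ?_⟩).symm h1
  · rintro ⟨_, u, rfl, a, b⟩ ⟨_, v, rfl, c, d⟩ e
    obtain ⟨z, hz, e⟩ := isConj_quot_center_iff.1 (ConjClasses.mk_eq_mk_iff_isConj.1 (congrArg Subtype.val e))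
    have k := (e.pow 4).symm
    rw [c, isConj_one_right, (show Commute u z from mem_center_iff.1 hz u).mul_pow, a, one_mul] at k
    rw [h3 z hz k, mul_one] at e
    exact Subtype.ext (ConjClasses.mk_eq_mk_iff_isConj.2 e)
  · rintro ⟨K, hK⟩
    obtain ⟨w, hw, rfl⟩ := mem_cls.1 hK
    obtain ⟨g, rfl⟩ := QuotientGroup.mk_surjective w
    have k : g ^ 4 ∈ center SL(3, F) := by
      rw [← QuotientGroup.eq_one_iff, QuotientGroup.mk_pow, ← hw, pow_orderOf_eq_one]
    have k1 : ((g ^ 9 : SL(3, F)) : PSL(3, F)) = g := by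
      rw [QuotientGroup.mk_pow, ← pow_mod_orderOf, hw, pow_one]
    have k2 : (g ^ 9) ^ 4 = 1 := by
      rw [pow_right_comm, show 9 = 3 * 3 from rfl, pow_mul, h2 _ k, one_pow]
    exact ⟨⟨_, g ^ 9, rfl, k2, (h4 _ k2).1 (k1 ▸ hw)⟩, Subtype.ext (congrArg ConjClasses.mk k1)⟩

end Cfsg.Lib.KCl
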